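import Mathlib

set_option autoImplicit false

/-!
# Strongly regular graphs: integrality of multiplicities and of traces of automorphisms
-/

namespace Cfsg.Agent.Fischer160.Srg

open Matrix Finset

theorem trace_idempotent {V : Type*} [Fintype V] [DecidableEq V] (N : Matrix V V ℝ)
    (hN : N * N = N) : ∃ n : ℕ, N.trace = n := by
  have h1 : IsIdempotentElem (Matrix.toLin' N) := by
    show Matrix.toLin' N * Matrix.toLin' N = Matrix.toLin' N
    rw [Module.End.mul_eq_comp, ← Matrix.toLin'_mul, hN]
  have h2 := (LinearMap.IsIdempotentElem.isProj_range _ h1).trace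
  rw [Matrix.trace_toLin'_eq] at h2
  exact ⟨_, h2⟩

variable {V : Type*} [Fintype V] [DecidableEq V]

/-- the all-one matrix -/
def J (V : Type*) : Matrix V V ℝ := Matrix.of fun _ _ => 1

theorem J_mul_J : J V * J V = (Fintype.card V : ℝ) • J V := by
  ext i j
  simp [J, Matrix.mul_apply]

theorem trace_J : (J V).trace = Fintype.card V := by
  simp [J, Matrix.trace]

/-- matrix equations of a strongly regular graph -/
structure SrgMat (A : Matrix V V ℝ) (k lam mu : ℝ) : Prop where
  sq : A * A = (k - mu) • (1 : Matrix V V ℝ) + (lam - mu) • A + mu • J V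
  mulJ : A * J V = k • J V
  Jmul : J V * A = k • J V

theorem SrgMat.param [Nonempty V] {A : Matrix V V ℝ} {k lam mu : ℝ} (h : SrgMat A k lam mu) :
    k * k = (k - mu) + (lam - mu) * k + mu * Fintype.card V := by
  have h1 : A * A * J V = (k * k) • J V := by
    rw [Matrix.mul_assoc, h.mulJ, Matrix.mul_smul, h.mulJ, smul_smul]
  rw [h.sq, Matrix.add_mul, Matrix.add_mul, Matrix.smul_mul, Matrix.smul_mul, Matrix.smul_mul,
    Matrix.one_mul, h.mulJ, J_mul_J, smul_smul, smul_smul, ← add_smul, ← add_smul] at h1
  obtain ⟨i⟩ := ‹Nonempty V›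
  have h2 := congrFun (congrFun h1 i) i
  simp [J] at h2
  linarith

/-- **Integrality**: for a finite group `K` of automorphisms the dimension of the fixed space of
`K` on the `θ`-eigenspace is a natural number. -/
theorem SrgMat.integrality [Nonempty V] {A : Matrix V V ℝ} {k lam mu s : ℝ}
    (h : SrgMat A k lam mu)
    (hs : 0 < s) (hs2 : s * s = (lam - mu) * (lam - mu) + 4 * (k - mu)) {K : Type*} [Group K]
    [Fintype K] (P : K → Matrix V V ℝ) (hP : ∀ g h : K, P (g * h) = P g * P h)
    (hPA : ∀ g, P g * A = A * P g) (hPJ : ∀ g, P g * J V = J V) (hJP : ∀ g, J V * P g = J V) :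
    ∃ n : ℕ, ∑ g : K, ((A * P g).trace - ((lam - mu - s) / 2) * (P g).trace -
      (k - (lam - mu - s) / 2)) = Fintype.card K * s * n := by
  classical
  set τ : ℝ := (lam - mu - s) / 2 with hτ
  set v : ℝ := (Fintype.card V : ℝ) with hv
  have hv0 : v ≠ 0 := by rw [hv]; exact_mod_cast Fintype.card_ne_zero
  set c : ℝ := (k - τ) / v with hc
  set M : Matrix V V ℝ := (1 / s) • (A - τ • (1 : Matrix V V ℝ) - c • J V) with hM
  have hpar := h.param
  have hMM : M * M = M := by
    have e1 : (A - τ • (1 : Matrix V V ℝ) - c • J V) * (A - τ • (1 : Matrix V V ℝ) - c • J V) =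
        s • (A - τ • (1 : Matrix V V ℝ) - c • J V) := by
      have e2 : (A - τ • (1 : Matrix V V ℝ) - c • J V) * (A - τ • (1 : Matrix V V ℝ) - c • J V) =
          (k - mu + τ * τ) • (1 : Matrix V V ℝ) + (lam - mu - 2 * τ) • A +
            (mu - 2 * c * k + 2 * c * τ + c * c * v) • J V := by
        simp only [Matrix.sub_mul, Matrix.mul_sub, Matrix.smul_mul, Matrix.mul_smul, h.sq, h.mulJ,
          h.Jmul, J_mul_J, Matrix.one_mul, Matrix.mul_one, smul_smul, smul_sub]
        ext i j
        simp only [Matrix.sub_apply, Matrix.add_apply, Matrix.smul_apply, smul_eq_mul, ← hv]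
        ring
      rw [e2]
      have e3 : k - mu + τ * τ = - (s * τ) := by rw [hτ]; nlinarith
      have e4 : lam - mu - 2 * τ = s := by rw [hτ]; ring
      have e5 : mu - 2 * c * k + 2 * c * τ + c * c * v = - (s * c) := by
        have e6 : c * v = k - τ := by rw [hc]; field_simp
        have e7 : mu - 2 * c * k + 2 * c * τ + c * c * v = mu - c * (k - τ) := by
          calc mu - 2 * c * k + 2 * c * τ + c * c * v = mu - 2 * c * (k - τ) + c * (c * v) := by ring
            _ = mu - c * (k - τ) := by rw [e6]; ring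
        rw [e7]
        have e8 : (mu - c * (k - τ) + s * c) * v = 0 := by
          calc (mu - c * (k - τ) + s * c) * v = mu * v - (c * v) * (k - τ - s) := by ring
            _ = mu * v - (k - τ) * (k - τ - s) := by rw [e6]
            _ = 0 := by
                rw [hτ]
                nlinarith
        have := (mul_eq_zero.1 e8).resolve_right hv0
        linarith
      rw [e3, e4, e5]
      ext i j
      simp only [Matrix.sub_apply, Matrix.add_apply, Matrix.smul_apply, smul_eq_mul]
      ring
    rw [hM, Matrix.smul_mul, Matrix.mul_smul, smul_smul, e1, smul_smul]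
    congr 1
    field_simp
  set m : ℝ := (Fintype.card K : ℝ) with hm
  have hm0 : m ≠ 0 := by rw [hm]; exact_mod_cast Fintype.card_ne_zero
  set E : Matrix V V ℝ := (1 / m) • ∑ g : K, P g with hE
  have hEE : E * E = E := by
    have e1 : (∑ g : K, P g) * (∑ g : K, P g) = m • ∑ g : K, P g := by
      rw [Finset.sum_mul]
      have : ∀ g : K, P g * ∑ h : K, P h = ∑ h : K, P h := by
        intro g
        rw [Finset.mul_sum]
        simp only [← hP]
        exact Fintype.sum_equiv (Equiv.mulLeft g) _ _ (fun x => rfl)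
      simp only [this, Finset.sum_const, Finset.card_univ, hm]
      rw [← Nat.cast_smul_eq_nsmul ℝ]
    rw [hE, Matrix.smul_mul, Matrix.mul_smul, smul_smul, e1, smul_smul]
    congr 1
    field_simp
  have hPM : ∀ g, P g * M = M * P g := by
    intro g
    rw [hM, Matrix.mul_smul, Matrix.smul_mul]
    congr 1
    rw [Matrix.mul_sub, Matrix.mul_sub, Matrix.sub_mul, Matrix.sub_mul, hPA g, Matrix.mul_smul,
      Matrix.mul_smul, Matrix.smul_mul, Matrix.smul_mul, hPJ, hJP, Matrix.mul_one, Matrix.one_mul]
  have hEM : E * M = M * E := by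
    have e0 : (∑ g : K, P g) * M = M * ∑ g : K, P g := by
      rw [Finset.sum_mul, Finset.mul_sum]
      exact Finset.sum_congr rfl (fun g _ => hPM g)
    rw [hE, Matrix.smul_mul, e0]
    exact (Matrix.mul_smul M (1 / m) _).symm
  have hN : (M * E) * (M * E) = M * E := by
    calc (M * E) * (M * E) = M * (E * M) * E := by simp only [Matrix.mul_assoc]
      _ = M * (M * E) * E := by rw [hEM]
      _ = (M * M) * (E * E) := by simp only [Matrix.mul_assoc]
      _ = M * E := by rw [hMM, hEE]
  obtain ⟨n, hn⟩ := trace_idempotent _ hN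
  refine ⟨n, ?_⟩
  rw [← hn, hE, Matrix.mul_smul, Matrix.trace_smul, Finset.mul_sum, Matrix.trace_sum, smul_eq_mul]
  have e1 : ∀ g : K, (M * P g).trace = (1 / s) * ((A * P g).trace - τ * (P g).trace - (k - τ)) := by
    intro g
    rw [hM, Matrix.smul_mul, Matrix.trace_smul, Matrix.sub_mul, Matrix.sub_mul, Matrix.trace_sub,
      Matrix.trace_sub, Matrix.smul_mul, Matrix.smul_mul, Matrix.one_mul, hJP, Matrix.trace_smul,
      Matrix.trace_smul, trace_J, smul_eq_mul, smul_eq_mul, smul_eq_mul]
    congr 2
    rw [hc, ← hv]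
    field_simp
  simp only [e1]
  rw [← Finset.mul_sum]
  field_simp

end Cfsg.Agent.Fischer160.Srg
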