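import Mathlib
import Cfsg.Agent.Fischer160.Srg
import Cfsg.Agent.Fischer160.Inherit

set_option autoImplicit false
set_option linter.style.haveILetI false

/-!
# Parameters of the commuting graph of a 3-transposition group: numerical tests
-/

namespace Cfsg.Agent.Fischer160.Params

open Cfsg Cfsg.Agent.SporadicStructure.FischerSpace Cfsg.Agent.ThreeTransPolar.Basic
open Cfsg.Agent.Fischer160.Inherit Cfsg.Agent.Fischer160.Srg

variable {G : Type*} [Group G] {D : Set G}

/-- parameters of the commuting graph -/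
structure Params (D : Set G) (v k lam mu : ℕ) : Prop where
  card : D.ncard = v
  k : ∀ x ∈ D, (Dx D x).ncard = k
  lam : ∀ x ∈ D, ∀ y ∈ D, x ≠ y → Commute x y →
    {d | d ∈ D ∧ d ≠ x ∧ d ≠ y ∧ Commute d x ∧ Commute d y}.ncard = lam
  mu : ∀ x ∈ D, ∀ y ∈ D, ¬ Commute x y → {d | d ∈ D ∧ Commute d x ∧ Commute d y}.ncard = mu

theorem exists_params [Finite G] (R : Rk D) : ∃ v k lam mu, Params D v k lam mu := by
  have h := R.fd
  obtain ⟨x0, hx0⟩ := h.nonempty
  obtain ⟨z0, hz0, hzx, hxz⟩ := R.exPerp x0 hx0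
  obtain ⟨w0, hw0, hxw⟩ := R.exCol x0 hx0
  refine ⟨_, (Dx D x0).ncard, {d | d ∈ D ∧ d ≠ x0 ∧ d ≠ z0 ∧ Commute d x0 ∧ Commute d z0}.ncard,
    {d | d ∈ D ∧ Commute d x0 ∧ Commute d w0}.ncard, rfl, ?_, ?_, ?_⟩
  · intro x hx
    obtain ⟨g, hg⟩ := h.single x hx x0 hx0
    refine Set.ncard_congr (fun y _ => cj g y) ?_ ?_ ?_
    · rintro y ⟨h1, h2, h3⟩
      refine ⟨cj_mem h h1, ?_, ?_⟩
      · rw [← hg]
        intro h4
        exact h2 (cj_inj.1 h4)
      · rw [← hg]
        exact commute_cj.2 h3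
    · intro y z _ _ hyz
      exact cj_inj.1 hyz
    · rintro y ⟨h1, h2, h3⟩
      refine ⟨cj g⁻¹ y, ⟨cj_mem h h1, ?_, ?_⟩, cj_cj_inv g y⟩
      · intro h4
        apply h2
        rw [← hg, ← cj_cj_inv g y, h4]; rfl
      · have h5 : cj g⁻¹ x0 = x := by rw [← hg]; exact cj_inv_cj g x
        rw [← h5]
        exact commute_cj.2 h3
  · intro x hx y hy hxy hc
    obtain ⟨g, hg1, hg2⟩ := Cfsg.Agent.ThreeTransPolar.Lines.pair_conj_com R hx hy hx0 hz0 hxy
      hzx.symm hc hxz
    refine Set.ncard_congr (fun y _ => cj g y) ?_ ?_ ?_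
    · rintro d ⟨h1, h2, h3, h4, h5⟩
      refine ⟨cj_mem h h1, ?_, ?_, ?_, ?_⟩
      · rw [← hg1]
        exact fun h6 => h2 (cj_inj.1 h6)
      · rw [← hg2]
        exact fun h6 => h3 (cj_inj.1 h6)
      · rw [← hg1]
        exact commute_cj.2 h4
      · rw [← hg2]
        exact commute_cj.2 h5
    · intro y z _ _ hyz
      exact cj_inj.1 hyz
    · rintro d ⟨h1, h2, h3, h4, h5⟩
      have e1 : cj g⁻¹ x0 = x := by rw [← hg1]; exact cj_inv_cj g x
      have e2 : cj g⁻¹ z0 = y := by rw [← hg2]; exact cj_inv_cj g y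
      refine ⟨cj g⁻¹ d, ⟨cj_mem h h1, ?_, ?_, ?_, ?_⟩, cj_cj_inv g d⟩
      · rw [← e1]
        exact fun h6 => h2 (cj_inj.1 h6)
      · rw [← e2]
        exact fun h6 => h3 (cj_inj.1 h6)
      · rw [← e1]
        exact commute_cj.2 h4
      · rw [← e2]
        exact commute_cj.2 h5
  · intro x hx y hy hc
    obtain ⟨g, hg1, hg2⟩ := Cfsg.Agent.ThreeTransPolar.Lines.pair_conj_col R hx hy hx0 hw0 hc hxw
    refine Set.ncard_congr (fun y _ => cj g y) ?_ ?_ ?_
    · rintro d ⟨h1, h4, h5⟩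
      refine ⟨cj_mem h h1, ?_, ?_⟩
      · rw [← hg1]
        exact commute_cj.2 h4
      · rw [← hg2]
        exact commute_cj.2 h5
    · intro y z _ _ hyz
      exact cj_inj.1 hyz
    · rintro d ⟨h1, h4, h5⟩
      have e1 : cj g⁻¹ x0 = x := by rw [← hg1]; exact cj_inv_cj g x
      have e2 : cj g⁻¹ w0 = y := by rw [← hg2]; exact cj_inv_cj g y
      refine ⟨cj g⁻¹ d, ⟨cj_mem h h1, ?_, ?_⟩, cj_cj_inv g d⟩
      · rw [← e1]
        exact commute_cj.2 h4
      · rw [← e2]
        exact commute_cj.2 h5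

section Mat

open Classical in
/-- adjacency matrix of the commuting graph -/
noncomputable def A (D : Set G) : Matrix ↥D ↥D ℝ :=
  Matrix.of fun x y => if x ≠ y ∧ Commute (x : G) (y : G) then 1 else 0

open Classical in
/-- the permutation matrix of conjugation by `g` -/
noncomputable def P (D : Set G) (g : G) : Matrix ↥D ↥D ℝ :=
  Matrix.of fun x y => if cj g (y : G) = x then 1 else 0

variable [Finite G]

noncomputable local instance : Fintype ↥D := Fintype.ofFinite _

theorem P_mul (h : FData D) (g g' : G) : P D (g * g') = P D g * P D g' := by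
  classical
  ext x y
  rw [Matrix.mul_apply]
  simp only [P, Matrix.of_apply]
  rw [Finset.sum_eq_single (⟨cj g' y, cj_mem h y.2⟩ : ↥D)]
  · simp [cj_mul]
  · intro z _ hz
    rw [if_neg (c := cj g' (y : G) = z), mul_zero]
    intro h1
    exact hz (Subtype.ext h1.symm)
  · intro h1; exact absurd (Finset.mem_univ _) h1

theorem P_mul_J (h : FData D) (g : G) : P D g * J ↥D = J ↥D := by
  classical
  ext x y
  rw [Matrix.mul_apply]
  simp only [P, Matrix.of_apply, J, mul_one]
  rw [Finset.sum_eq_single (⟨cj g⁻¹ x, cj_mem h x.2⟩ : ↥D)]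
  · simp
  · intro z _ hz
    rw [if_neg]
    intro h1
    apply hz
    apply Subtype.ext
    show (z : G) = cj g⁻¹ x
    rw [← h1, cj_inv_cj]
  · intro h1; exact absurd (Finset.mem_univ _) h1

theorem J_mul_P (h : FData D) (g : G) : J ↥D * P D g = J ↥D := by
  classical
  ext x y
  rw [Matrix.mul_apply]
  simp only [P, Matrix.of_apply, J, one_mul]
  rw [Finset.sum_eq_single (⟨cj g y, cj_mem h y.2⟩ : ↥D)]
  · simp
  · intro z _ hz
    rw [if_neg]
    intro h1
    apply hz
    exact Subtype.ext h1.symm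
  · intro h1; exact absurd (Finset.mem_univ _) h1

theorem P_mul_A (h : FData D) (g : G) : P D g * A D = A D * P D g := by
  classical
  ext x y
  rw [Matrix.mul_apply, Matrix.mul_apply]
  simp only [P, Matrix.of_apply, A]
  rw [Finset.sum_eq_single (⟨cj g⁻¹ x, cj_mem h x.2⟩ : ↥D),
    Finset.sum_eq_single (⟨cj g y, cj_mem h y.2⟩ : ↥D)]
  · have e1 : (((⟨cj g⁻¹ x, cj_mem h x.2⟩ : ↥D) ≠ y ∧ Commute (cj g⁻¹ (x : G)) (y : G))) ↔
        ((x ≠ (⟨cj g y, cj_mem h y.2⟩ : ↥D)) ∧ Commute (x : G) (cj g y)) := by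
      have e2 : Commute (cj g⁻¹ (x : G)) (y : G) ↔ Commute (x : G) (cj g y) := by
        rw [← commute_cj (g := g), cj_cj_inv]
      have e3 : (⟨cj g⁻¹ x, cj_mem h x.2⟩ : ↥D) = y ↔ x = (⟨cj g y, cj_mem h y.2⟩ : ↥D) := by
        rw [Subtype.ext_iff, Subtype.ext_iff]
        constructor
        · intro h1
          show (x : G) = cj g y
          rw [← h1]; simp
        · intro h1
          have h2 : (x : G) = cj g y := h1
          show cj g⁻¹ (x : G) = y
          rw [h2]; simp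
      rw [ne_eq, e3, e2]
    simp only [cj_cj_inv, if_true, one_mul, mul_one]
    simp only [e1]
  · intro z _ hz
    rw [if_neg (c := cj g (y : G) = z), mul_zero]
    intro h1
    exact hz (Subtype.ext h1.symm)
  · intro h1; exact absurd (Finset.mem_univ _) h1
  · intro z _ hz
    rw [if_neg (c := cj g (z : G) = x), zero_mul]
    intro h1
    apply hz
    apply Subtype.ext
    show (z : G) = cj g⁻¹ x
    rw [← h1, cj_inv_cj]
  · intro h1; exact absurd (Finset.mem_univ _) h1

theorem trace_P (g : G) : (P D g).trace = ({y | y ∈ D ∧ cj g y = y}.ncard : ℝ) := by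
  classical
  rw [Matrix.trace]
  simp only [Matrix.diag_apply, P, Matrix.of_apply]
  rw [Finset.sum_boole]
  norm_cast
  rw [← Set.ncard_coe_finset]
  refine Set.ncard_congr (fun y _ => (y : G)) ?_ ?_ ?_
  · intro y hy
    simp only [Finset.coe_filter, Finset.mem_univ, true_and, Set.mem_ofPred_eq] at hy
    exact ⟨y.2, hy⟩
  · intro a b _ _ hab
    exact Subtype.ext hab
  · rintro y ⟨hy, h1⟩
    exact ⟨⟨y, hy⟩, by simpa using h1, rfl⟩

theorem trace_A_P (h : FData D) (g : G) :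
    (A D * P D g).trace = ({y | y ∈ D ∧ y ≠ cj g y ∧ Commute y (cj g y)}.ncard : ℝ) := by
  classical
  rw [Matrix.trace]
  have e1 : ∀ y : ↥D, (A D * P D g).diag y =
      if ((y : G) ≠ cj g y ∧ Commute (y : G) (cj g y)) then (1 : ℝ) else 0 := by
    intro y
    rw [Matrix.diag_apply, Matrix.mul_apply]
    simp only [P, A, Matrix.of_apply]
    rw [Finset.sum_eq_single (⟨cj g y, cj_mem h y.2⟩ : ↥D)]
    · have e2 : y ≠ (⟨cj g y, cj_mem h y.2⟩ : ↥D) ↔ (y : G) ≠ cj g y := by
        rw [ne_eq, Subtype.ext_iff]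
      simp only [e2, if_true, mul_one]
    · intro z _ hz
      rw [if_neg (c := cj g (y : G) = z), mul_zero]
      intro h1
      exact hz (Subtype.ext h1.symm)
    · intro h1; exact absurd (Finset.mem_univ _) h1
  simp only [e1]
  rw [Finset.sum_boole]
  norm_cast
  rw [← Set.ncard_coe_finset]
  refine Set.ncard_congr (fun y _ => (y : G)) ?_ ?_ ?_
  · intro y hy
    simp only [Finset.coe_filter, Finset.mem_univ, true_and, Set.mem_ofPred_eq] at hy
    exact ⟨y.2, hy⟩
  · intro a b _ _ hab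
    exact Subtype.ext hab
  · rintro y ⟨hy, h1⟩
    exact ⟨⟨y, hy⟩, by simpa using h1, rfl⟩

end Mat

end Cfsg.Agent.Fischer160.Params
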