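import Mathlib
import Cfsg.Agent.Fischer160.Params

set_option autoImplicit false
set_option linter.style.haveILetI false

/-!
# Numerical tests for the parameters of a 3-transposition group

`tests`: the parameters `v, k, λ, μ` of the commuting graph satisfy `v = 1 + k + l`,
`μ l = k (k - 1 - λ)`, and (unless the graph is a conference graph) the discriminant is the
square of `s` and the dimensions of the fixed spaces of `1`, of `d` and of `xw` (order 3) on
an eigenspace are non-negative integers.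
-/

namespace Cfsg.Agent.Fischer160.Numerics

open Cfsg Cfsg.Agent.SporadicStructure.FischerSpace Cfsg.Agent.ThreeTransPolar.Basic
open Cfsg.Agent.Fischer160.Inherit Cfsg.Agent.Fischer160.Srg Cfsg.Agent.Fischer160.Params

variable {G : Type*} [Group G] {D : Set G}

section comb

/-- an element of `D` commuting with `xw` commutes with `x` and with `w` -/
theorem commute_mul_iff (h : FData D) {x w y : G} (hx : x ∈ D) (hw : w ∈ D) (hy : y ∈ D)
    (hxw : ¬ Commute x w) : Commute (x * w) y ↔ Commute y x ∧ Commute y w := by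
  constructor
  · intro h1
    have h2 : cj x (cj w y) = y := by
      rw [← cj_mul]; exact cj_of_commute h1
    have h3 : cj w y = cj x y := by
      have := congrArg (cj x) h2
      rwa [cj_cj_self h hx] at this
    by_cases hxy : Commute x y
    · refine ⟨hxy.symm, ?_⟩
      rw [cj_of_commute hxy] at h3
      exact (cj_eq_self_iff.1 h3).symm
    · exfalso
      have hwy : ¬ Commute w y := by
        intro h4
        rw [cj_of_commute h4] at h3
        exact hxy (cj_eq_self_iff.1 h3.symm)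
      have e1 := cj_third' h hx hy hxy
      have e2 := cj_third' h hw hy hwy
      rw [h3, e1] at e2
      exact hxw (by rw [e2])
  · rintro ⟨h1, h2⟩
    exact Commute.mul_left h1.symm h2.symm

/-- `y` and its image under `xw` never commute -/
theorem not_commute_cj_mul (h : FData D) {x w y : G} (hx : x ∈ D) (hw : w ∈ D) (hy : y ∈ D)
    (hxw : ¬ Commute x w) (hne : y ≠ cj (x * w) y) : ¬ Commute y (cj (x * w) y) := by
  intro hc
  rw [cj_mul] at hc hne
  have hc' : Commute (cj x y) (cj w y) := (commute_cj_left' h hx).2 hc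
  by_cases hxy : Commute x y
  · rw [cj_of_commute hxy] at hc'
    by_cases hwy : Commute w y
    · apply hne
      rw [cj_of_commute hwy, cj_of_commute hxy]
    · exact not_commute_third h hy (fun h1 => hwy h1.symm)
        (by rw [third_comm h hy hw (fun h1 => hwy h1.symm)]; exact hc'.symm)
  · by_cases hwy : Commute w y
    · rw [cj_of_commute hwy] at hc'
      exact not_commute_third h hy (fun h1 => hxy h1.symm)
        (by rw [third_comm h hy hx (fun h1 => hxy h1.symm)]; exact hc')
    · set a := cj x y with ha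
      set b := cj w y with hb
      have haD : a ∈ D := cj_mem h hy
      have hbD : b ∈ D := cj_mem h hy
      have hya : ¬ Commute y a := by
        intro h1
        exact not_commute_third h hy (fun h1 => hxy h1.symm)
          (by rw [third_comm h hy hx (fun h1 => hxy h1.symm)]; exact h1.symm)
      have hyb : ¬ Commute y b := by
        intro h1
        exact not_commute_third h hy (fun h1 => hwy h1.symm)
          (by rw [third_comm h hy hw (fun h1 => hwy h1.symm)]; exact h1.symm)
      have h1 := s4_commute h haD hbD hy hc' hya hyb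
      have h2 : Commute (cj a y) (cj b y) := (commute_cj_left' h haD).2 h1
      rw [ha, hb, cj_third' h hx hy hxy, cj_third' h hw hy hwy] at h2
      exact hxw h2

variable [Finite G]

theorem mu_lt_k (R : Rk D) {v k lam mu : ℕ} (P : Params D v k lam mu) : mu < k := by
  have h := R.fd
  obtain ⟨x, hx⟩ := h.nonempty
  obtain ⟨y, hy, hyx, hxy⟩ := R.exPerp x hx
  obtain ⟨u, hu, hux, huy⟩ := R.both x hx y hy hxy
  rw [← P.k x hx, ← P.mu x hx u hu (fun h1 => hux h1.symm)]
  refine Set.ncard_lt_ncard ?_ (Set.toFinite _)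
  refine ⟨?_, ?_⟩
  · rintro d ⟨h1, h2, h3⟩
    refine ⟨h1, ?_, h2.symm⟩
    rintro rfl
    exact hux h3.symm
  · intro h1
    have h2 : y ∈ {d | d ∈ D ∧ Commute d x ∧ Commute d u} := h1 ⟨hy, hyx, hxy⟩
    exact huy h2.2.2.symm

end comb

section Mat

variable [Finite G]

noncomputable local instance instD : Fintype ↥D := Fintype.ofFinite _
noncomputable local instance instE : DecidableEq ↥D := Classical.decEq _

omit [Finite G] in
theorem A_apply (x y : ↥D) [Decidable (x ≠ y ∧ Commute (x : G) (y : G))] :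
    (A D) x y = if x ≠ y ∧ Commute (x : G) (y : G) then 1 else 0 := by
  simp only [A, Matrix.of_apply]
  congr

theorem srgMat (h : FData D) {v k lam mu : ℕ} (P : Params D v k lam mu) :
    SrgMat (A D) (k : ℝ) lam mu := by
  classical
  have hdeg : ∀ x : ↥D, (∑ y : ↥D, (A D) x y) = (k : ℝ) := by
    intro x
    simp only [A_apply]
    rw [Finset.sum_boole]
    norm_cast
    rw [← P.k x x.2, ← Set.ncard_coe_finset]
    refine Set.ncard_congr (fun y _ => (y : G)) ?_ ?_ ?_
    · intro y hy
      simp only [Finset.coe_filter, Finset.mem_univ, true_and, Set.mem_ofPred_eq] at hy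
      exact ⟨y.2, fun h1 => hy.1 (Subtype.ext h1.symm), hy.2⟩
    · intro a b _ _ hab
      exact Subtype.ext hab
    · rintro y ⟨hy, h1, h2⟩
      refine ⟨⟨y, hy⟩, ?_, rfl⟩
      simp only [Finset.coe_filter, Finset.mem_univ, true_and, Set.mem_ofPred_eq]
      exact ⟨fun h3 => h1 (by rw [h3]), h2⟩
  have hsymm : ∀ x y : ↥D, (A D) x y = (A D) y x := by
    intro x y
    simp only [A_apply]
    have : (x ≠ y ∧ Commute (x : G) (y : G)) ↔ (y ≠ x ∧ Commute (y : G) (x : G)) :=
      ⟨fun h1 => ⟨h1.1.symm, h1.2.symm⟩, fun h1 => ⟨h1.1.symm, h1.2.symm⟩⟩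
    simp only [this]
  refine ⟨?_, ?_, ?_⟩
  · ext x y
    rw [Matrix.mul_apply]
    have e1 : ∀ z : ↥D, (A D) x z * (A D) z y =
        if (x ≠ z ∧ Commute (x : G) z) ∧ (z ≠ y ∧ Commute (z : G) y) then 1 else 0 := by
      intro z
      simp only [A_apply, ite_and, mul_ite, mul_one, mul_zero]
      split_ifs <;> rfl
    simp only [e1]
    rw [Finset.sum_boole]
    simp only [Matrix.add_apply, Matrix.smul_apply, smul_eq_mul, J, Matrix.of_apply, mul_one]
    by_cases hxy : x = y
    · subst hxy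
      simp only [A_apply, Matrix.one_apply_eq, mul_one, ne_eq, not_true, false_and,
        if_false, mul_zero, add_zero, sub_add_cancel]
      have : (Finset.univ.filter fun z : ↥D => (¬ x = z ∧ Commute (x : G) z) ∧
          (¬ z = x ∧ Commute (z : G) x)).card = k := by
        rw [← P.k x x.2, ← Set.ncard_coe_finset]
        refine Set.ncard_congr (fun y _ => (y : G)) ?_ ?_ ?_
        · intro y hy
          simp only [Finset.coe_filter, Finset.mem_univ, true_and, Set.mem_ofPred_eq] at hy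
          exact ⟨y.2, fun h1 => hy.1.1 (Subtype.ext h1.symm), hy.1.2⟩
        · intro a b _ _ hab
          exact Subtype.ext hab
        · rintro y ⟨hy, h1, h2⟩
          refine ⟨⟨y, hy⟩, ?_, rfl⟩
          simp only [Finset.coe_filter, Finset.mem_univ, true_and, Set.mem_ofPred_eq]
          exact ⟨⟨fun h3 => h1 (by rw [h3]), h2⟩, ⟨fun h3 => h1 (by rw [← h3]), h2.symm⟩⟩
      rw [this]
    · by_cases hc : Commute (x : G) (y : G)
      · have : (Finset.univ.filter fun z : ↥D => (x ≠ z ∧ Commute (x : G) z) ∧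
            (z ≠ y ∧ Commute (z : G) y)).card = lam := by
          rw [← P.lam x x.2 y y.2 (fun h1 => hxy (Subtype.ext h1)) hc, ← Set.ncard_coe_finset]
          refine Set.ncard_congr (fun y _ => (y : G)) ?_ ?_ ?_
          · intro z hz
            simp only [Finset.coe_filter, Finset.mem_univ, true_and, Set.mem_ofPred_eq] at hz
            exact ⟨z.2, fun h1 => hz.1.1 (Subtype.ext h1.symm), fun h1 => hz.2.1 (Subtype.ext h1),
              hz.1.2.symm, hz.2.2⟩
          · intro a b _ _ hab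
            exact Subtype.ext hab
          · rintro z ⟨hz, h1, h2, h3, h4⟩
            refine ⟨⟨z, hz⟩, ?_, rfl⟩
            simp only [Finset.coe_filter, Finset.mem_univ, true_and, Set.mem_ofPred_eq]
            exact ⟨⟨fun h3 => h1 (by rw [h3]), h3.symm⟩, ⟨fun h3 => h2 (by rw [← h3]), h4⟩⟩
        rw [this]
        simp only [A_apply, Matrix.one_apply_ne hxy, mul_zero, zero_add]
        rw [if_pos ⟨hxy, hc⟩]
        ring
      · have : (Finset.univ.filter fun z : ↥D => (x ≠ z ∧ Commute (x : G) z) ∧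
            (z ≠ y ∧ Commute (z : G) y)).card = mu := by
          rw [← P.mu x x.2 y y.2 hc, ← Set.ncard_coe_finset]
          refine Set.ncard_congr (fun y _ => (y : G)) ?_ ?_ ?_
          · intro z hz
            simp only [Finset.coe_filter, Finset.mem_univ, true_and, Set.mem_ofPred_eq] at hz
            exact ⟨z.2, hz.1.2.symm, hz.2.2⟩
          · intro a b _ _ hab
            exact Subtype.ext hab
          · rintro z ⟨hz, h1, h2⟩
            refine ⟨⟨z, hz⟩, ?_, rfl⟩
            simp only [Finset.coe_filter, Finset.mem_univ, true_and, Set.mem_ofPred_eq]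
            refine ⟨⟨?_, h1.symm⟩, ⟨?_, h2⟩⟩
            · rintro rfl
              exact hc h2
            · rintro rfl
              exact hc h1.symm
        rw [this]
        simp only [A_apply, Matrix.one_apply_ne hxy, mul_zero, zero_add]
        rw [if_neg (fun h1 => hc h1.2)]
        ring
  · ext x y
    rw [Matrix.mul_apply]
    simp only [J, Matrix.of_apply, mul_one, Matrix.smul_apply, smul_eq_mul]
    exact hdeg x
  · ext x y
    rw [Matrix.mul_apply]
    simp only [J, Matrix.of_apply, one_mul, Matrix.smul_apply, smul_eq_mul, mul_one]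
    rw [← hdeg y]
    exact Finset.sum_congr rfl (fun z _ => hsymm z y)

omit [Finite G] in
theorem P_one : P D (1 : G) = 1 := by
  classical
  ext x y
  simp only [P, Matrix.of_apply, cj_one]
  by_cases hxy : x = y
  · subst hxy; simp
  · rw [Matrix.one_apply_ne hxy, if_neg]
    intro h1
    exact hxy (Subtype.ext h1.symm)

/-- integrality for the cyclic group generated by `g` -/
theorem integ (h : FData D) {v k lam mu : ℕ} (P : Params D v k lam mu) {s : ℝ} (hs : 0 < s)
    (hs2 : s * s = ((lam : ℝ) - mu) * (lam - mu) + 4 * (k - mu)) (g : G) :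
    ∃ n : ℕ, ∑ i ∈ Finset.range (orderOf g),
      (({y | y ∈ D ∧ y ≠ cj (g ^ i) y ∧ Commute y (cj (g ^ i) y)}.ncard : ℝ) -
        ((lam - mu - s) / 2) * ({y | y ∈ D ∧ cj (g ^ i) y = y}.ncard : ℝ) -
        (k - (lam - mu - s) / 2)) = orderOf g * s * n := by
  classical
  obtain ⟨x0, hx0⟩ := h.nonempty
  haveI : Nonempty ↥D := ⟨⟨x0, hx0⟩⟩
  haveI : Fintype ↥(Subgroup.zpowers g) := Fintype.ofFinite _
  obtain ⟨n, hn⟩ := (srgMat h P).integrality hs hs2 (K := ↥(Subgroup.zpowers g))
    (fun a => Cfsg.Agent.Fischer160.Params.P D (a : G)) (fun a b => P_mul h a b)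
    (fun a => P_mul_A h a) (fun a => P_mul_J h a) (fun a => J_mul_P h a)
  refine ⟨n, ?_⟩
  have hcard : Fintype.card ↥(Subgroup.zpowers g) = orderOf g := by
    rw [← Nat.card_eq_fintype_card, Nat.card_zpowers]
  rw [hcard] at hn
  rw [← hn, Finset.sum_range]
  simp only [trace_P, trace_A_P h]
  exact Fintype.sum_equiv (finEquivZPowers (isOfFinOrder_of_finite g)) _ _ (fun i => by
    simp only [finEquivZPowers_apply])

/-- **The numerical tests** for given `s`. -/
structure Good (v k lam mu s : ℕ) : Prop where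
  pos : 0 < s
  sq : (s : ℤ) * s = ((lam : ℤ) - mu) * (lam - mu) + 4 * (k - mu)
  t1 : ∃ n : ℕ, ((s : ℤ) + mu - lam) * (v - 1) = 2 * k + 2 * s * n
  td : ∃ n : ℕ, ((s : ℤ) + mu - lam) * (v + k - 1) = 4 * k + 4 * s * n
  tw : ∃ n : ℕ, ((s : ℤ) + mu - lam) * (v + 2 * mu - 3) = 6 * k + 6 * s * n

theorem test_one (h : FData D) {v k lam mu : ℕ} (P : Params D v k lam mu) {s : ℝ} (hs : 0 < s)
    (hs2 : s * s = ((lam : ℝ) - mu) * (lam - mu) + 4 * (k - mu)) :
    ∃ n : ℕ, (s + mu - lam) * (v - 1) = 2 * k + 2 * s * n := by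
  obtain ⟨n, hn⟩ := integ h P hs hs2 (1 : G)
  refine ⟨n, ?_⟩
  rw [orderOf_one, Finset.sum_range_one, pow_zero] at hn
  have e1 : {y | y ∈ D ∧ y ≠ cj 1 y ∧ Commute y (cj 1 y)} = ∅ := by
    ext y
    simp
  have e2 : {y | y ∈ D ∧ cj 1 y = y} = D := by
    ext y
    simp
  rw [e1, e2, P.card, Set.ncard_empty] at hn
  push_cast at hn
  linarith

theorem test_d (h : FData D) {v k lam mu : ℕ} (P : Params D v k lam mu) {s : ℝ} (hs : 0 < s)
    (hs2 : s * s = ((lam : ℝ) - mu) * (lam - mu) + 4 * (k - mu)) :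
    ∃ n : ℕ, (s + mu - lam) * (v + k - 1) = 4 * k + 4 * s * n := by
  obtain ⟨d, hd⟩ := h.nonempty
  obtain ⟨n, hn⟩ := integ h P hs hs2 d
  refine ⟨n, ?_⟩
  have ho : orderOf d = 2 := orderOf_eq_prime (by rw [pow_two]; exact h.sq d hd) (h.ne_one d hd)
  rw [ho, Finset.sum_range_succ, Finset.sum_range_one, pow_zero, pow_one] at hn
  have e1 : {y | y ∈ D ∧ y ≠ cj 1 y ∧ Commute y (cj 1 y)} = ∅ := by
    ext y
    simp
  have e2 : {y | y ∈ D ∧ cj 1 y = y} = D := by
    ext y
    simp
  have e3 : {y | y ∈ D ∧ y ≠ cj d y ∧ Commute y (cj d y)} = ∅ := by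
    rw [Set.eq_empty_iff_forall_notMem]
    rintro y ⟨h1, h2, h3⟩
    have h4 : ¬ Commute d y := fun h5 => h2 (cj_of_commute h5).symm
    have h5 := not_commute_third h h1 (fun h6 => h4 h6.symm)
    rw [third_comm h h1 hd (fun h6 => h4 h6.symm)] at h5
    exact h5 h3.symm
  have e4 : {y | y ∈ D ∧ cj d y = y} = insert d (Dx D d) := by
    ext y
    simp only [Set.mem_insert_iff, Dx, Set.mem_ofPred_eq]
    constructor
    · rintro ⟨h1, h2⟩
      by_cases h3 : y = d
      · exact Or.inl h3
      · exact Or.inr ⟨h1, h3, cj_eq_self_iff.1 h2⟩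
    · rintro (rfl | ⟨h1, h2, h3⟩)
      · exact ⟨hd, cj_self _⟩
      · exact ⟨h1, cj_of_commute h3⟩
  have e5 : (insert d (Dx D d)).ncard = k + 1 := by
    rw [Set.ncard_insert_of_notMem (fun h1 => h1.2.1 rfl) (Set.toFinite _), P.k d hd]
  rw [e1, e2, e3, e4, e5, P.card, Set.ncard_empty] at hn
  push_cast at hn
  linarith

theorem test_w (R : Rk D) {v k lam mu : ℕ} (P : Params D v k lam mu) {s : ℝ} (hs : 0 < s)
    (hs2 : s * s = ((lam : ℝ) - mu) * (lam - mu) + 4 * (k - mu)) :
    ∃ n : ℕ, (s + mu - lam) * (v + 2 * mu - 3) = 6 * k + 6 * s * n := by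
  have h := R.fd
  obtain ⟨x, hx⟩ := h.nonempty
  obtain ⟨w, hw, hxw⟩ := R.exCol x hx
  obtain ⟨n, hn⟩ := integ h P hs hs2 (x * w)
  refine ⟨n, ?_⟩
  have hsq : (x * w) ^ 2 = w * x := by
    have h1 := h.braid x hx w hw hxw
    calc (x * w) ^ 2 = (x * w * x) * w := by rw [pow_two]; group
      _ = w * x * (w * w) := by rw [h1]; group
      _ = w * x := by rw [h.sq w hw, mul_one]
  have ho : orderOf (x * w) = 3 := by
    refine orderOf_eq_prime ?_ ?_
    · calc (x * w) ^ 3 = (x * w) ^ 2 * (x * w) := by rw [pow_succ]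
        _ = w * (x * x) * w := by rw [hsq]; group
        _ = 1 := by rw [h.sq x hx, mul_one, h.sq w hw]
    · intro h1
      apply hxw
      have h2 : x = w⁻¹ := eq_inv_of_mul_eq_one_left h1
      rw [h2]
      exact (Commute.refl w).inv_left
  rw [ho, Finset.sum_range_succ, Finset.sum_range_succ, Finset.sum_range_one, pow_zero, pow_one,
    hsq] at hn
  have e1 : {y | y ∈ D ∧ y ≠ cj 1 y ∧ Commute y (cj 1 y)} = ∅ := by
    ext y
    simp
  have e2 : {y | y ∈ D ∧ cj 1 y = y} = D := by
    ext y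
    simp
  have e3 : ∀ a ∈ D, ∀ b ∈ D, ¬ Commute a b →
      {y | y ∈ D ∧ y ≠ cj (a * b) y ∧ Commute y (cj (a * b) y)} = ∅ := by
    intro a ha b hb hab
    rw [Set.eq_empty_iff_forall_notMem]
    rintro y ⟨h1, h2, h3⟩
    exact not_commute_cj_mul h ha hb h1 hab h2 h3
  have e4 : ∀ a ∈ D, ∀ b ∈ D, ¬ Commute a b → {y | y ∈ D ∧ cj (a * b) y = y}.ncard = mu := by
    intro a ha b hb hab
    rw [← P.mu a ha b hb hab]
    congr 1
    ext y
    simp only [Set.mem_ofPred_eq]
    constructor
    · rintro ⟨h1, h2⟩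
      exact ⟨h1, (commute_mul_iff h ha hb h1 hab).1 (cj_eq_self_iff.1 h2)⟩
    · rintro ⟨h1, h2⟩
      exact ⟨h1, cj_of_commute ((commute_mul_iff h ha hb h1 hab).2 h2)⟩
  have hwx : ¬ Commute w x := fun h1 => hxw h1.symm
  rw [e1, e2, e3 x hx w hw hxw, e3 w hw x hx hwx, e4 x hx w hw hxw, e4 w hw x hx hwx, P.card,
    Set.ncard_empty] at hn
  push_cast at hn
  linarith

/-- the basic relation `k (k - 1 - λ) = μ (v - 1 - k)` -/
theorem relation (h : FData D) {v k lam mu : ℕ} (P : Params D v k lam mu) :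
    (k : ℤ) * (k - 1 - lam) = mu * (v - 1 - k) := by
  obtain ⟨x0, hx0⟩ := h.nonempty
  haveI : Nonempty ↥D := ⟨⟨x0, hx0⟩⟩
  have h1 := (srgMat h P).param
  have h2 : (Fintype.card ↥D) = v := by
    rw [← Nat.card_eq_fintype_card, Nat.card_coe_set_eq, P.card]
  rw [h2] at h1
  have h3 : ((k : ℤ) : ℝ) * k = ((k : ℤ) - mu) + (lam - mu) * k + mu * v := by
    push_cast
    exact h1
  have h4 : (k : ℤ) * k = ((k : ℤ) - mu) + (lam - mu) * k + mu * v := by exact_mod_cast h3
  linarith

theorem mu_pos (R : Rk D) {v k lam mu : ℕ} (P : Params D v k lam mu) : 0 < mu := by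
  obtain ⟨x, hx, w, hw, d, hd, hxw, h1, h2⟩ := R.exNonPerp
  rw [← P.mu x hx w hw hxw]
  exact (Set.ncard_pos (Set.toFinite _)).2 ⟨d, hd, h1, h2⟩

/-- **The numerical tests.** -/
theorem tests (R : Rk D) {v k lam mu : ℕ} (P : Params D v k lam mu) :
    0 < mu ∧ mu < k ∧ (k : ℤ) * (k - 1 - lam) = mu * (v - 1 - k) ∧
      (2 * (k : ℤ) = (mu - lam) * (v - 1) ∨ ∃ s, Good v k lam mu s) := by
  have h := R.fd
  have hmk := mu_lt_k R P
  refine ⟨mu_pos R P, hmk, relation h P, ?_⟩
  set Δ : ℤ := ((lam : ℤ) - mu) * (lam - mu) + 4 * (k - mu) with hΔ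
  have hpos : 0 < Δ := by
    have : (mu : ℤ) < k := by exact_mod_cast hmk
    nlinarith [mul_self_nonneg ((lam : ℤ) - mu)]
  by_cases hsq : ∃ s : ℤ, s * s = Δ
  · right
    obtain ⟨s, hs⟩ := hsq
    refine ⟨s.natAbs, ?_⟩
    have hs' : ((s.natAbs : ℕ) : ℤ) * (s.natAbs : ℕ) = Δ := by
      rw [Int.natAbs_mul_self' s]; exact hs
    set t : ℕ := s.natAbs with ht
    have ht0 : 0 < t := by
      rcases Nat.eq_zero_or_pos t with h0 | h0
      · rw [h0] at hs'
        simp at hs'
        omega
      · exact h0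
    have htR : (0 : ℝ) < (t : ℝ) := by exact_mod_cast ht0
    have htR2 : (t : ℝ) * t = ((lam : ℝ) - mu) * (lam - mu) + 4 * (k - mu) := by
      have : ((((t : ℕ) : ℤ) * (t : ℕ) : ℤ) : ℝ) = ((Δ : ℤ) : ℝ) := by rw [hs']
      rw [hΔ] at this
      push_cast at this
      exact this
    refine ⟨ht0, hs', ?_, ?_, ?_⟩
    · obtain ⟨n, hn⟩ := test_one h P htR htR2
      refine ⟨n, ?_⟩
      exact_mod_cast hn
    · obtain ⟨n, hn⟩ := test_d h P htR htR2
      refine ⟨n, ?_⟩
      exact_mod_cast hn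
    · obtain ⟨n, hn⟩ := test_w R P htR htR2
      refine ⟨n, ?_⟩
      exact_mod_cast hn
  · left
    set s : ℝ := Real.sqrt Δ with hs
    have hΔR : (0 : ℝ) < (Δ : ℝ) := by exact_mod_cast hpos
    have hs0 : 0 < s := Real.sqrt_pos.2 hΔR
    have hs2 : s * s = ((lam : ℝ) - mu) * (lam - mu) + 4 * (k - mu) := by
      rw [hs, Real.mul_self_sqrt hΔR.le, hΔ]
      push_cast
      ring
    have hirr : Irrational s := by
      rw [hs]
      rw [irrational_sqrt_intCast_iff]
      refine ⟨?_, hpos.le⟩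
      rintro ⟨r, hr⟩
      exact hsq ⟨r, hr.symm⟩
    obtain ⟨n, hn⟩ := test_one h P hs0 hs2
    have e1 : s * (((v : ℤ) - 1 - 2 * n : ℤ) : ℝ) = ((2 * k - (mu - lam) * (v - 1) : ℤ) : ℝ) := by
      push_cast
      linarith
    by_cases hz : ((v : ℤ) - 1 - 2 * n : ℤ) = 0
    · rw [hz] at e1
      simp only [Int.cast_zero, mul_zero] at e1
      have : (2 * (k : ℤ) - (mu - lam) * (v - 1) : ℤ) = 0 := by exact_mod_cast e1.symm
      linarith
    · exfalso
      have hz' : (((v : ℤ) - 1 - 2 * n : ℤ) : ℝ) ≠ 0 := by exact_mod_cast hz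
      apply hirr
      refine ⟨((2 * k - (mu - lam) * (v - 1) : ℤ) : ℚ) / (((v : ℤ) - 1 - 2 * n : ℤ) : ℚ), ?_⟩
      push_cast
      push_cast at e1 hz'
      rw [div_eq_iff hz']
      linarith

end Mat

end Cfsg.Agent.Fischer160.Numerics
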