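import Mathlib
import Cfsg.Agent.Fischer160.Numerics

set_option autoImplicit false

/-!
# A decision procedure for the numerical tests
-/

namespace Cfsg.Agent.Fischer160.Decide

open Cfsg Cfsg.Agent.SporadicStructure.FischerSpace Cfsg.Agent.ThreeTransPolar.Basic
open Cfsg.Agent.Fischer160.Inherit Cfsg.Agent.Fischer160.Params Cfsg.Agent.Fischer160.Numerics

/-- Newton iteration (no correctness needed) -/
def newton : ℕ → ℕ → ℕ → ℕ
  | 0, _, r => r
  | f + 1, n, r => bif Nat.ble r ((r + n / r) / 2) then r else newton f n ((r + n / r) / 2)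

/-- candidate for the integer square root -/
def isq (n : ℕ) : ℕ := newton 64 n (2 ^ (Nat.log2 n / 2 + 1))

/-- `ok k lam mu = true` if the parameters `(k, λ, μ)` may survive the tests. -/
def ok (k lam mu : ℕ) : Bool :=
  bif Nat.beq (k * (k - 1 - lam) % mu) 0 then
    -- `l = k (k - 1 - λ) / μ`
    (fun l : ℕ =>
      -- `v - 1 = k + l`
      (Nat.beq (2 * k + lam * (k + l)) (mu * (k + l))) ||
      (fun Δ : ℕ =>
        (fun r : ℕ =>
          bif Nat.beq (r * r) Δ then
            -- `2 k ≤ p (v - 1)` etc. with `p = r + μ - λ`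
            (Nat.ble (2 * k) ((r + mu - lam) * (k + l)) &&
              Nat.beq (((r + mu - lam) * (k + l) - 2 * k) % (2 * r)) 0 &&
              Nat.ble (4 * k) ((r + mu - lam) * (k + l + k)) &&
              Nat.beq (((r + mu - lam) * (k + l + k) - 4 * k) % (4 * r)) 0 &&
              Nat.ble (6 * k) ((r + mu - lam) * (k + l + 2 * mu - 2)) &&
              Nat.beq (((r + mu - lam) * (k + l + 2 * mu - 2) - 6 * k) % (6 * r)) 0)
          else
            !(Nat.ble (r * r + 1) Δ && Nat.ble (Δ + 1) ((r + 1) * (r + 1)))) (isq Δ))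
        ((lam * lam + mu * mu + 4 * k) - 2 * lam * mu - 4 * mu)) (k * (k - 1 - lam) / mu)
  else false

theorem ok_of_good {v k lam mu : ℕ} (hmu : 0 < mu) (hmk : mu < k)
    (hlk : lam + 1 ≤ k)
    (hrel : (k : ℤ) * (k - 1 - lam) = mu * (v - 1 - k))
    (h : 2 * (k : ℤ) = (mu - lam) * (v - 1) ∨ ∃ s, Good v k lam mu s) :
    ok k lam mu = true ∧ v = 1 + k + k * (k - 1 - lam) / mu := by
  obtain ⟨e, rfl⟩ : ∃ e, k = lam + 1 + e := ⟨k - (lam + 1), by omega⟩
  have e0 : lam + 1 + e - 1 - lam = e := by omega
  have hv1 : lam + 1 + e + 1 ≤ v := by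
    by_contra hlt
    have h1 : (v : ℤ) - 1 - ((lam + 1 + e : ℕ) : ℤ) < 0 := by push_cast; omega
    have h2 : (0 : ℤ) ≤ ((lam + 1 + e : ℕ) : ℤ) * (((lam + 1 + e : ℕ) : ℤ) - 1 - lam) := by
      push_cast
      have : (lam : ℤ) + 1 + e - 1 - lam = e := by ring
      rw [this]
      positivity
    rw [hrel] at h2
    have h3 : (0 : ℤ) < mu := by exact_mod_cast hmu
    nlinarith
  obtain ⟨l, rfl⟩ : ∃ l, v = 1 + (lam + 1 + e) + l := ⟨v - (1 + (lam + 1 + e)), by omega⟩
  have hl : (lam + 1 + e) * e = mu * l := by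
    have : (((lam + 1 + e) * e : ℕ) : ℤ) = ((mu * l : ℕ) : ℤ) := by
      push_cast
      push_cast at hrel
      linarith
    exact_mod_cast this
  have hmod : (lam + 1 + e) * e % mu = 0 := by rw [hl]; exact Nat.mul_mod_right mu l
  have hdiv : (lam + 1 + e) * e / mu = l := by rw [hl]; exact Nat.mul_div_cancel_left l hmu
  refine ⟨?_, by rw [e0, hdiv]⟩
  set k := lam + 1 + e with hk
  have hkz : ((k : ℕ) : ℤ) = lam + 1 + e := by rw [hk]; push_cast; ring
  unfold ok
  rw [e0, hmod, hdiv]
  simp only [Nat.beq_refl, cond_true]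
  set Δ : ℕ := (lam * lam + mu * mu + 4 * k) - 2 * lam * mu - 4 * mu with hΔ
  have hΔz : (Δ : ℤ) = ((lam : ℤ) - mu) * (lam - mu) + 4 * (k - mu) := by
    have h1 : 2 * lam * mu ≤ lam * lam + mu * mu := by
      have : (2 : ℤ) * lam * mu ≤ lam * lam + mu * mu := by
        nlinarith [mul_self_nonneg ((lam : ℤ) - mu)]
      exact_mod_cast this
    have h2 : Δ + 2 * lam * mu + 4 * mu = lam * lam + mu * mu + 4 * k := by omega
    have h3 : (Δ : ℤ) + 2 * lam * mu + 4 * mu = lam * lam + mu * mu + 4 * k := by exact_mod_cast h2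
    linarith
  rw [Bool.or_eq_true]
  rcases h with h | ⟨s, hs⟩
  · left
    rw [Nat.beq_eq]
    have h1 : (2 * (k : ℤ) + lam * (k + l)) = mu * (k + l) := by
      push_cast at h
      linarith
    exact_mod_cast h1
  · right
    have hss : s * s = Δ := by
      have : ((s * s : ℕ) : ℤ) = (Δ : ℤ) := by rw [hΔz]; push_cast; exact hs.sq
      exact_mod_cast this
    -- the candidate is `s`, or the nonsquare certificate fails
    have key : ∀ r : ℕ, (bif Nat.beq (r * r) Δ then
            (Nat.ble (2 * k) ((r + mu - lam) * (k + l)) &&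
              Nat.beq (((r + mu - lam) * (k + l) - 2 * k) % (2 * r)) 0 &&
              Nat.ble (4 * k) ((r + mu - lam) * (k + l + k)) &&
              Nat.beq (((r + mu - lam) * (k + l + k) - 4 * k) % (4 * r)) 0 &&
              Nat.ble (6 * k) ((r + mu - lam) * (k + l + 2 * mu - 2)) &&
              Nat.beq (((r + mu - lam) * (k + l + 2 * mu - 2) - 6 * k) % (6 * r)) 0)
          else
            !(Nat.ble (r * r + 1) Δ && Nat.ble (Δ + 1) ((r + 1) * (r + 1)))) = true := by
      intro r
      rcases hb : Nat.beq (r * r) Δ with _ | _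
      · simp only [cond_false, Bool.not_eq_true', Bool.and_eq_false_iff]
        by_contra hcon
        push Not at hcon
        obtain ⟨h1, h2⟩ := hcon
        have h1' : r * r + 1 ≤ Δ := Nat.le_of_ble_eq_true (by simpa using h1)
        have h2' : Δ + 1 ≤ (r + 1) * (r + 1) := Nat.le_of_ble_eq_true (by simpa using h2)
        rw [← hss] at h1' h2'
        have h3 : r < s := by
          by_contra h4
          push Not at h4
          have := Nat.mul_le_mul h4 h4
          omega
        have h4 : s < r + 1 := by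
          by_contra h4
          push Not at h4
          have := Nat.mul_le_mul h4 h4
          omega
        omega
      · simp only [cond_true]
        have hr : r * r = Δ := Nat.eq_of_beq_eq_true hb
        have hrs : r = s := by
          rw [← hss] at hr
          exact Nat.mul_self_inj.1 hr
        subst hrs
        have hp : lam ≤ r + mu := by
          by_contra hlt
          push Not at hlt
          have h1 : (r : ℤ) < lam - mu := by omega
          have h2 : (0 : ℤ) ≤ r := by positivity
          have h3 : (r : ℤ) * r < (lam - mu) * (lam - mu) := by nlinarith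
          have h4 := hs.sq
          have h5 : (mu : ℤ) < k := by exact_mod_cast hmk
          linarith
        obtain ⟨p, hp'⟩ : ∃ p, r + mu = lam + p := ⟨r + mu - lam, by omega⟩
        have hpz : (r : ℤ) + mu - lam = p := by
          have : ((r + mu : ℕ) : ℤ) = ((lam + p : ℕ) : ℤ) := by rw [hp']
          push_cast at this
          linarith
        have hpn : r + mu - lam = p := by omega
        rw [hpn]
        obtain ⟨⟨n1, h1⟩, ⟨n2, h2⟩, ⟨n3, h3⟩⟩ := And.intro hs.t1 (And.intro hs.td hs.tw)
        rw [hpz] at h1 h2 h3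
        have h1' : p * (k + l) = 2 * k + 2 * r * n1 := by
          have : ((p * (k + l) : ℕ) : ℤ) = ((2 * k + 2 * r * n1 : ℕ) : ℤ) := by
            push_cast
            push_cast at h1
            linarith
          exact_mod_cast this
        have h2' : p * (k + l + k) = 4 * k + 4 * r * n2 := by
          have : ((p * (k + l + k) : ℕ) : ℤ) = ((4 * k + 4 * r * n2 : ℕ) : ℤ) := by
            push_cast
            push_cast at h2
            linarith
          exact_mod_cast this
        have h3' : p * (k + l + 2 * mu - 2) = 6 * k + 6 * r * n3 := by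
          obtain ⟨q, hq⟩ : ∃ q, k + l + 2 * mu = q + 2 := ⟨k + l + 2 * mu - 2, by omega⟩
          have hq' : k + l + 2 * mu - 2 = q := by omega
          rw [hq']
          have hqz : (k : ℤ) + l + 2 * mu = q + 2 := by exact_mod_cast hq
          have : ((p * q : ℕ) : ℤ) = ((6 * k + 6 * r * n3 : ℕ) : ℤ) := by
            push_cast
            push_cast at h3
            have e1 : (q : ℤ) = 1 + (k : ℤ) + l + 2 * mu - 3 := by linarith
            rw [e1]
            linarith
          exact_mod_cast this
        rw [h1', h2', h3', Nat.add_sub_cancel_left, Nat.add_sub_cancel_left,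
          Nat.add_sub_cancel_left, Nat.mul_mod_right, Nat.mul_mod_right, Nat.mul_mod_right]
        simp
    exact key _

/-- all `mu` in `[lo, lo + 2^f)` with `ok`; `N = k (k - 1 - λ)` -/
noncomputable def searchN (k lam N : ℕ) (f : ℕ) : ℕ → List ℕ :=
  @Nat.rec (fun _ => ℕ → List ℕ)
    (fun lo => @Bool.rec (fun _ => List ℕ) []
      (@Bool.rec (fun _ => List ℕ) [] [lo] (ok k lam lo)) (Nat.beq (Nat.mod N lo) 0))
    (fun n ih lo => @List.rec ℕ (fun _ => List ℕ) (ih (Nat.add lo (Nat.pow 2 n)))
      (fun a _ l => a :: l) (ih lo)) f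

theorem searchN_zero (k lam N lo : ℕ) : searchN k lam N 0 lo =
    bif Nat.beq (N % lo) 0 then (bif ok k lam lo then [lo] else []) else [] := by
  show @Bool.rec (fun _ => List ℕ) []
      (@Bool.rec (fun _ => List ℕ) [] [lo] (ok k lam lo)) (Nat.beq (N % lo) 0) = _
  cases Nat.beq (N % lo) 0 <;> cases ok k lam lo <;> rfl

theorem searchN_succ (k lam N f lo : ℕ) :
    searchN k lam N (f + 1) lo = searchN k lam N f lo ++ searchN k lam N f (lo + 2 ^ f) := by
  show @List.rec ℕ (fun _ => List ℕ) (searchN k lam N f (lo + 2 ^ f))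
      (fun a _ l => a :: l) (searchN k lam N f lo) = _
  generalize searchN k lam N f (lo + 2 ^ f) = b
  induction searchN k lam N f lo with
  | nil => rfl
  | cons a l ih => exact congrArg (List.cons a) ih

theorem mem_searchN (k lam : ℕ) : ∀ (f lo mu : ℕ), lo ≤ mu → mu < lo + 2 ^ f →
    ok k lam mu = true → mu ∈ searchN k lam (k * (k - 1 - lam)) f lo
  | 0, lo, mu, h1, h2, h3 => by
    have : mu = lo := by simp at h2; omega
    subst this
    have h4 : Nat.beq (k * (k - 1 - lam) % mu) 0 = true := by
      unfold ok at h3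
      rcases hb : Nat.beq (k * (k - 1 - lam) % mu) 0 with _ | _
      · rw [hb] at h3
        simp at h3
      · rfl
    rw [searchN_zero, h4, h3]
    simp
  | f + 1, lo, mu, h1, h2, h3 => by
    rw [searchN_succ, List.mem_append]
    rw [pow_succ] at h2
    by_cases h4 : mu < lo + 2 ^ f
    · exact Or.inl (mem_searchN k lam f lo mu h1 h4 h3)
    · exact Or.inr (mem_searchN k lam f (lo + 2 ^ f) mu (by omega) (by omega) h3)

/-- the list of the possible `μ` -/
noncomputable def search (k lam f : ℕ) : List ℕ := searchN k lam (k * (k - 1 - lam)) f 1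

variable {G : Type*} [Group G] {D : Set G}

theorem lam_lt_k [Finite G] (R : Rk D) {v k lam mu : ℕ} (P : Params D v k lam mu) :
    lam + 1 ≤ k := by
  have h := R.fd
  obtain ⟨x, hx⟩ := h.nonempty
  obtain ⟨y, hy, hyx, hxy⟩ := R.exPerp x hx
  rw [← P.k x hx, ← P.lam x hx y hy hyx.symm hxy]
  have : {d | d ∈ D ∧ d ≠ x ∧ d ≠ y ∧ Commute d x ∧ Commute d y} ⊆ Dx D x \ {y} := by
    rintro d ⟨h1, h2, h3, h4, h5⟩
    exact ⟨⟨h1, h2, h4.symm⟩, h3⟩
  have h2 := Set.ncard_le_ncard this (Set.toFinite _)
  have h3 : (Dx D x \ {y}).ncard + 1 = (Dx D x).ncard :=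
    Set.ncard_diff_singleton_add_one ⟨hy, hyx, hxy⟩ (Set.toFinite _)
  omega

/-- **The numerical restriction**: `μ` is in the list `search`, and `v` is determined. -/
theorem mem_search_of_params [Finite G] (R : Rk D) {v k lam mu : ℕ} (P : Params D v k lam mu)
    (f : ℕ) (hf : k ≤ 2 ^ f) :
    mu ∈ search k lam f ∧ v = 1 + k + k * (k - 1 - lam) / mu := by
  obtain ⟨h1, h2, h3, h4⟩ := tests R P
  obtain ⟨h5, h6⟩ := ok_of_good h1 h2 (lam_lt_k R P) h3 h4
  exact ⟨mem_searchN k lam f 1 mu h1 (by omega) h5, h6⟩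

end Cfsg.Agent.Fischer160.Decide
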