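import Mathlib
import Cfsg.Agent.Fischer160.Decide
import Cfsg.Agent.Fischer480.Defs

set_option autoImplicit false

/-!
# The numerical restrictions for the cases of S0480

`numerics`: for a Fischer group with `|D_x| = k` and `|D_x ∩ D_y| = λ` (`x, y` commuting) the number
`μ = |D_x ∩ D_y|` (`x, y` not commuting) is in the list `search k λ f` and `|D|` is determined.
-/

namespace Cfsg.Agent.Fischer160.Cases

open Cfsg Cfsg.Agent.SporadicStructure.FischerSpace Cfsg.Agent.ThreeTransPolar.Basic
open Cfsg.Agent.Fischer160.Params Cfsg.Agent.Fischer160.Numerics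
open Cfsg.Agent.Fischer160.Decide Cfsg.Agent.Fischer480.Defs

universe u

/-- the hypothesis of all cases: a Fischer group with given `k` and `λ` -/
structure KL {G : Type u} [Group G] (D : Set G) (k lam : ℕ) : Prop where
  fg : FGroup D
  k : ∀ x ∈ D, (Loc D x).ncard = k
  lam : ∀ x ∈ D, ∀ y ∈ Loc D x, (Loc (Loc D x) y).ncard = lam

/-- the conclusion: `μ` and `v` -/
structure MV {G : Type u} [Group G] (D : Set G) (mu v : ℕ) : Prop where
  mu : ∀ x ∈ D, ∀ y ∈ D, ¬ Commute x y → (Com D x y).ncard = mu
  v : D.ncard = v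

variable {G : Type u} [Group G] [Finite G] {D : Set G}

theorem rk (hD : FGroup D) : Rk D :=
  Cfsg.Agent.Fischer160.Inherit.rk_of_FGroup ⟨fdata_of_class hD.cls, hD.sol, hD.perf⟩

theorem numerics {k lam : ℕ} (h : KL D k lam) (f : ℕ) (hf : k ≤ 2 ^ f) :
    ∃ mu ∈ search k lam f, MV D mu (1 + k + k * (k - 1 - lam) / mu) := by
  have R := rk h.fg
  have hd := R.fd
  obtain ⟨v, k', lam', mu, P⟩ := exists_params R
  obtain ⟨x, hx⟩ := hd.nonempty
  obtain ⟨y, hy, hyx, hxy⟩ := R.exPerp x hx
  have hk : k' = k := by rw [← P.k x hx, ← h.k x hx]; rfl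
  subst hk
  have hl : lam' = lam := by
    rw [← P.lam x hx y hy hyx.symm hxy, ← h.lam x hx y ⟨hy, hyx, hxy⟩]
    congr 1
    ext d
    simp only [Loc, Set.mem_ofPred_eq]
    constructor
    · rintro ⟨h1, h2, h3, h4, h5⟩
      exact ⟨⟨h1, h2, h4.symm⟩, h3, h5.symm⟩
    · rintro ⟨⟨h1, h2, h4⟩, h3, h5⟩
      exact ⟨h1, h2, h3, h4.symm, h5.symm⟩
  subst hl
  obtain ⟨h1, h2⟩ := mem_search_of_params R P f hf
  refine ⟨mu, h1, ?_, by rw [P.card, h2]⟩
  intro a ha b hb hab
  rw [← P.mu a ha b hb hab]
  congr 1
  ext d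
  simp only [Com, Set.mem_ofPred_eq]
  constructor
  · rintro ⟨h1, h2, h3⟩
    exact ⟨h1, h2.symm, h3.symm⟩
  · rintro ⟨h1, h2, h3⟩
    exact ⟨h1, h2.symm, h3.symm⟩

theorem search_of_searchN {k lam f N : ℕ} {l : List ℕ} (hN : k * (k - 1 - lam) = N)
    (h : searchN k lam N f 1 = l) : search k lam f = l := by
  rw [search, hN, h]

/-- a list with one element -/
theorem single {k lam : ℕ} (h : KL D k lam) (N f mu v : ℕ) (hf : k ≤ 2 ^ f)
    (hN : k * (k - 1 - lam) = N) (hs : searchN k lam N f 1 = [mu])
    (hv : 1 + k + N / mu = v) : MV D mu v := by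
  obtain ⟨m, hm, hm'⟩ := numerics h f hf
  rw [search_of_searchN hN hs, List.mem_singleton] at hm
  subst hm
  rw [hN, hv] at hm'
  exact hm'

/-- a list with two elements -/
theorem double {k lam : ℕ} (h : KL D k lam) (N f mu v mu' v' : ℕ) (hf : k ≤ 2 ^ f)
    (hN : k * (k - 1 - lam) = N) (hs : searchN k lam N f 1 = [mu, mu'])
    (hv : 1 + k + N / mu = v) (hv' : 1 + k + N / mu' = v') : MV D mu v ∨ MV D mu' v' := by
  obtain ⟨m, hm, hm'⟩ := numerics h f hf
  rw [search_of_searchN hN hs] at hm
  simp only [List.mem_cons, List.not_mem_nil, or_false] at hm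
  rcases hm with rfl | rfl
  · rw [hN, hv] at hm'
    exact Or.inl hm'
  · rw [hN, hv'] at hm'
    exact Or.inr hm'

/-- the empty list -/
theorem none {k lam : ℕ} (h : KL D k lam) (N f : ℕ) (hf : k ≤ 2 ^ f)
    (hN : k * (k - 1 - lam) = N) (hs : searchN k lam N f 1 = []) : False := by
  obtain ⟨m, hm, hm'⟩ := numerics h f hf
  rw [search_of_searchN hN hs] at hm
  simp at hm

theorem sym5 (h : KL D 10 3) : MV D 6 21 :=
  single h 60 4 6 21 (by norm_num) (by norm_num) (by decide +kernel) (by norm_num)

theorem sym6 (h : KL D 15 6) : MV D 6 36 ∨ MV D 10 28 :=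
  double h 120 4 6 36 10 28 (by norm_num) (by norm_num) (by decide +kernel) (by norm_num)
    (by norm_num)

theorem sym7 (h : KL D 21 10) : MV D 15 36 :=
  single h 210 5 15 36 (by norm_num) (by norm_num) (by decide +kernel) (by norm_num)

theorem sym8 (h : KL D 28 15) : MV D 21 45 :=
  single h 336 5 21 45 (by norm_num) (by norm_num) (by decide +kernel) (by norm_num)

theorem sym9 (h : KL D 36 21) : MV D 28 55 :=
  single h 504 6 28 55 (by norm_num) (by norm_num) (by decide +kernel) (by norm_num)

/-- `O⁻(6,2)`, `R(5)` with 36 points -/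
theorem r5 (h : KL D 36 15) : MV D 9 117 :=
  single h 720 6 9 117 (by norm_num) (by norm_num) (by decide +kernel) (by norm_num)

/-- `Sp(6,2)` -/
theorem sp6 (h : KL D 63 30) : MV D 28 136 ∨ MV D 36 120 :=
  double h 2016 6 28 136 36 120 (by norm_num) (by norm_num) (by decide +kernel) (by norm_num)
    (by norm_num)

/-- `O(8,2)` with 120 points: nothing. -/
theorem o8p (h : KL D 120 63) : False :=
  none h 6720 7 (by norm_num) (by norm_num) (by decide +kernel)

/-- `O(8,2)` with 136 points: nothing. -/
theorem o8m (h : KL D 136 63) : False :=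
  none h 9792 8 (by norm_num) (by norm_num) (by decide +kernel)

/-- `U(4)` = `R(5)` with 45 points -/
theorem u4 (h : KL D 45 12) : MV D 10 190 ∨ MV D 18 126 :=
  double h 1440 6 10 190 18 126 (by norm_num) (by norm_num) (by decide +kernel) (by norm_num)
    (by norm_num)

/-- `U(5)` (contradicts `v = 486`) -/
theorem u5 (h : KL D 165 36) : MV D 30 870 :=
  single h 21120 8 30 870 (by norm_num) (by norm_num) (by decide +kernel) (by norm_num)

/-- `U(6)`: the size of `Fi22` -/
theorem u6 (h : KL D 693 180) : MV D 126 3510 :=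
  single h 354816 10 126 3510 (by norm_num) (by norm_num) (by decide +kernel) (by norm_num)

/-- `U(7)`: nothing. -/
theorem u7 (h : KL D 2709 660) : False :=
  none h 5548032 12 (by norm_num) (by norm_num) (by decide +kernel)

/-- `R(6)` with 117 points -/
theorem r6a (h : KL D 117 36) : MV D 36 378 :=
  single h 9360 7 36 378 (by norm_num) (by norm_num) (by decide +kernel) (by norm_num)

/-- `R(6)` with 126 points -/
theorem r6b (h : KL D 126 45) : MV D 45 351 :=
  single h 10080 7 45 351 (by norm_num) (by norm_num) (by decide +kernel) (by norm_num)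

/-- `R(7)` with 351 points -/
theorem r7a (h : KL D 351 126) : MV D 108 1080 :=
  single h 78624 9 108 1080 (by norm_num) (by norm_num) (by decide +kernel) (by norm_num)

/-- `R(7)` with 378 points -/
theorem r7b (h : KL D 378 117) : MV D 135 1107 :=
  single h 98280 9 135 1107 (by norm_num) (by norm_num) (by decide +kernel) (by norm_num)

/-- the local space of `Fi22`: the size of `Fi23` -/
theorem t6 (h : KL D 3510 693) : MV D 351 31671 :=
  single h 9884160 12 351 31671 (by norm_num) (by norm_num) (by decide +kernel) (by norm_num)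

/-- the local space of `Fi23`: the size of `Fi24` -/
theorem t7 (h : KL D 31671 3510) : MV D 3240 306936 :=
  single h 891855360 15 3240 306936 (by norm_num) (by norm_num) (by decide +kernel) (by norm_num)

/-- the local space of `Fi24`: nothing. -/
theorem t8 (h : KL D 306936 31671) : False :=
  none h 84488431104 19 (by norm_num) (by norm_num) (by decide +kernel)

end Cfsg.Agent.Fischer160.Cases
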