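import Mathlib
import Cfsg.Agent.Fischer160.Cases
import Cfsg.Agent.TSp.UCount

set_option autoImplicit false

/-!
# S0480, pieces caseF6, caseF7, caseF8, and the sizes in case `U(6)`, from the numerical tests
-/

namespace Cfsg.Agent.Fischer160.CaseF

open Cfsg Cfsg.Agent.Fischer160.Cases Cfsg.Agent.Fischer480.Defs

universe u

variable {G : Type u} [Group G] [Finite G] {D : Set G}

/-- `D_x` of type `U(6)` -/
theorem numbers_u6 (hD : FGroup D) (h : ∀ x ∈ D, IsU 6 (Loc D x)) : MV D 126 3510 :=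
  u6 ⟨hD, fun x hx => (Cfsg.Agent.TSp.UCount.numbers_six (h x hx)).1,
    fun x hx => (Cfsg.Agent.TSp.UCount.numbers_six (h x hx)).2.1⟩

/-- `D_x` with 3510 members, locally of type `U(6)` -/
theorem numbers_t6 (hD : FGroup D) (h1 : ∀ x ∈ D, (Loc D x).ncard = 3510)
    (h2 : ∀ x ∈ D, ∀ y ∈ Loc D x, IsU 6 (Loc (Loc D x) y)) : MV D 351 31671 :=
  t6 ⟨hD, h1, fun x hx y hy => (Cfsg.Agent.TSp.UCount.numbers_six (h2 x hx y hy)).1⟩

/-- `D_x` with 31671 members, `D_x ∩ D_y` with 3510 members -/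
theorem numbers_t7 (hD : FGroup D) (h1 : ∀ x ∈ D, (Loc D x).ncard = 31671)
    (h2 : ∀ x ∈ D, ∀ y ∈ Loc D x, (Loc (Loc D x) y).ncard = 3510) : MV D 3240 306936 :=
  t7 ⟨hD, h1, h2⟩

theorem numbers_t8 (hD : FGroup D) (h1 : ∀ x ∈ D, (Loc D x).ncard = 306936)
    (h2 : ∀ x ∈ D, ∀ y ∈ Loc D x, (Loc (Loc D x) y).ncard = 31671) : False :=
  t8 ⟨hD, h1, h2⟩

/-- (F), third part -/
theorem caseF8 (hD : FGroup D) (h : ∀ x ∈ D, IsT8 (Loc D x)) : InList D :=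
  (numbers_t8 hD (fun x hx => (h x hx).1) (fun x hx y hy => ((h x hx).2.1 y hy).1)).elim

end Cfsg.Agent.Fischer160.CaseF
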