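import Mathlib
import Cfsg.Agent.Fischer160.Inherit
import Cfsg.Agent.Fischer480.Defs
import Cfsg.Agent.Involutions.BaerSuzuki

set_option autoImplicit false

/-!
# S0480, piece (1.1): the inheritance theorem in the form of `Fischer480.Main.Pieces`
-/

namespace Cfsg.Agent.Fischer160.Piece

open Cfsg Cfsg.Agent.SporadicStructure.FischerSpace Cfsg.Agent.ThreeTransPolar.Basic
open Cfsg.Agent.ThreeTransPolar.Lines Cfsg.Agent.Fischer160.Inherit

universe u

variable {G : Type u} [Group G] {D : Set G}

/-- product of two commuting involutions -/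
theorem mul_mul_self {a b : G} (ha : a * a = 1) (hb : b * b = 1) (hab : Commute a b) :
    (a * b) * (a * b) = 1 := by
  calc (a * b) * (a * b) = a * (b * a) * b := by group
    _ = a * (a * b) * b := by rw [hab.eq]
    _ = (a * a) * (b * b) := by group
    _ = 1 := by rw [ha, hb, mul_one]

/-- `((a b) (c d))^4 = 1` for two pairs `a, b` and `c, d` in the same block of `D_x`. -/
theorem pow_four [Finite G] (R : Rk D) {x a b c d : G} (hx : x ∈ D)
    (ha : a ∈ D) (hxa : x ≠ a) (hca : Commute x a) (hb : b ∈ Line D x a) (hbx : b ≠ x)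
    (hc : c ∈ D) (hxc : x ≠ c) (hcc : Commute x c) (hd : d ∈ Line D x c) (hdx : d ≠ x) :
    ((a * b) * (c * d)) ^ 4 = 1 := by
  have h := R.fd
  have hbD := Line_mem hb
  have hdD := Line_mem hd
  have hab : Commute a b := Line_commute hx ha hca (mem_Line_right ha) hb
  have hcd : Commute c d := Line_commute hx hc hcc (mem_Line_right hc) hd
  have hxb : Commute x b := Line_commute hx ha hca (mem_Line_left hx) hb
  have hLb : Line D x b = Line D x a := Line_eq R hx ha hxa hca (mem_Line_left hx) hb hbx.symm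
  set s := c * d with hs
  have hss : s * s = 1 := mul_mul_self (h.sq c hc) (h.sq d hdD) hcd
  have hsi : s⁻¹ = s := inv_eq_of_mul_eq_one_left hss
  have h1 : cj s a ∈ Line D x a := cj_mul_mem_Line R hx hc ha hxc hcc hca hd hdx
  have h2 : cj s b ∈ Line D x a := by
    rw [← hLb]
    exact cj_mul_mem_Line R hx hc hbD hxc hcc hxb hd hdx
  have c1 : Commute a (cj s a) := Line_commute hx ha hca (mem_Line_right ha) h1
  have c2 : Commute a (cj s b) := Line_commute hx ha hca (mem_Line_right ha) h2
  have c3 : Commute b (cj s a) := Line_commute hx ha hca hb h1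
  have c4 : Commute b (cj s b) := Line_commute hx ha hca hb h2
  have c5 : Commute (cj s a) (cj s b) := commute_cj.2 hab
  have e1 : ((a * b) * s) * ((a * b) * s) = (a * b) * (cj s a * cj s b) := by
    have : cj s a * cj s b = s * (a * b) * s := by
      rw [cj_def, cj_def, hsi]
      calc s * a * s * (s * b * s) = s * a * (s * s) * b * s := by group
        _ = s * (a * b) * s := by rw [hss]; group
    rw [this]
    group
  have e2 : (a * b) * (a * b) = 1 := mul_mul_self (h.sq a ha) (h.sq b hbD) hab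
  have e3 : (cj s a * cj s b) * (cj s a * cj s b) = 1 :=
    mul_mul_self (h.sq _ (cj_mem h ha)) (h.sq _ (cj_mem h hbD)) c5
  have c6 : Commute (a * b) (cj s a * cj s b) :=
    Commute.mul_left (Commute.mul_right c1 c2) (Commute.mul_right c3 c4)
  have e4 := mul_mul_self e2 e3 c6
  calc ((a * b) * s) ^ 4 = (((a * b) * s) * ((a * b) * s)) * (((a * b) * s) * ((a * b) * s)) := by
        rw [show (4 : ℕ) = 2 * 2 by norm_num, pow_mul, pow_two, pow_two]
    _ = 1 := by rw [e1, e4]

/-- If `O_2(⟨D_x⟩)` is central then all commuting lines have two points. -/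
theorem thinLines_of_pCore [Finite G] (R : Rk D) {x : G} (hx : x ∈ D)
    (h2 : Cfsg.pCore 2 (HH D x) ≤ Subgroup.center (HH D x)) : ThinLines D := by
  have h := R.fd
  by_contra hthin
  have T : Thick D := by
    rw [ThinLines] at hthin
    push Not at hthin
    obtain ⟨x', hx', y', hy', hne, hc, z', hz', h3, h4⟩ := hthin
    exact Cfsg.Agent.ThreeTransPolar.Main.thick_of_exists R hx' hy' hne hc ⟨z', hz', h3, h4⟩
  obtain ⟨y, hy, hyx, hxy⟩ := R.exPerp x hx
  obtain ⟨z, hz, hzx, hzy⟩ := T.third x hx y hy hyx.symm hxy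
  have hzD := Line_mem hz
  have hxz : Commute x z := Line_commute hx hy hxy (mem_Line_left hx) hz
  have hyz : Commute y z := Line_commute hx hy hxy (mem_Line_right hy) hz
  have hyH : y ∈ HH D x := mem_HH_of ⟨hy, hyx, hxy⟩
  have hzH : z ∈ HH D x := mem_HH_of ⟨hzD, hzx, hxz⟩
  set t : HH D x := ⟨y, hyH⟩ * ⟨z, hzH⟩ with ht
  have htt : t * t = 1 := by
    apply Subtype.ext
    exact mul_mul_self (h.sq y hy) (h.sq z hzD) hyz
  -- `t` is in a normal 2-subgroup
  have hnorm : IsPGroup 2 (Subgroup.normalClosure {t} : Subgroup (HH D x)) := by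
    by_contra hO
    obtain ⟨g, hg1, hodd, hg⟩ :=
      Cfsg.Agent.Involutions.BaerSuzuki.exists_odd_inverted t htt hO
    -- `t * t^(g) = g^(-2)`
    have hti : t⁻¹ = t := inv_eq_of_mul_eq_one_left htt
    have e1 : t * (g * t * g⁻¹) = g⁻¹ * g⁻¹ := by
      calc t * (g * t * g⁻¹) = (t * g * t⁻¹) * g⁻¹ := by rw [hti]; group
        _ = g⁻¹ * g⁻¹ := by rw [hg]
    have e2 : (t * (g * t * g⁻¹)) ^ 4 = 1 := by
      apply Subtype.ext
      have hgm : ∀ w ∈ D, Commute x w → w ≠ x → cj (g : G) w ∈ D ∧ Commute x (cj (g : G) w) ∧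
          cj (g : G) w ≠ x := by
        intro w hw hcw hwx
        have hgx : Commute (g : G) x := by
          have h5 : HH D x ≤ Subgroup.centralizer {x} := by
            rw [HH, Subgroup.closure_le]
            rintro d ⟨_, _, hd⟩
            rw [SetLike.mem_coe, Subgroup.mem_centralizer_singleton_iff]
            exact hd.symm.eq
          exact (Subgroup.mem_centralizer_singleton_iff.1 (h5 g.2))
        have hfix : cj (g : G) x = x := cj_of_commute hgx
        refine ⟨cj_mem h hw, ?_, ?_⟩
        · have := commute_cj (g := (g : G)) |>.2 hcw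
          rwa [hfix] at this
        · intro h6
          exact hwx (cj_inj.1 (h6.trans hfix.symm))
      obtain ⟨p1, p2, p3⟩ := hgm y hy hxy hyx
      obtain ⟨q1, q2, q3⟩ := hgm z hzD hxz hzx
      have hL : cj (g : G) z ∈ Line D x (cj (g : G) y) := by
        have h5 := cj_mem_Line h (g := (g : G)) hz
        have hgx : cj (g : G) x = x := by
          apply cj_of_commute
          have h5 : HH D x ≤ Subgroup.centralizer {x} := by
            rw [HH, Subgroup.closure_le]
            rintro d ⟨_, _, hd⟩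
            rw [SetLike.mem_coe, Subgroup.mem_centralizer_singleton_iff]
            exact hd.symm.eq
          exact (Subgroup.mem_centralizer_singleton_iff.1 (h5 g.2))
        rwa [hgx] at h5
      have h6 := pow_four R hx hy hyx.symm hxy hz hzx p1 (Ne.symm p3) p2 hL q3
      have h7 : ((t * (g * t * g⁻¹) : HH D x) : G) = (y * z) * (cj (g : G) y * cj (g : G) z) := by
        rw [ht]
        simp only [Subgroup.coe_mul, Subgroup.coe_inv, cj_def]
        group
      rw [SubmonoidClass.coe_pow, h7, h6]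
      rfl
    rw [e1] at e2
    have e3 : g ^ 8 = 1 := by
      have : (g⁻¹ * g⁻¹) ^ 4 = (g ^ 8)⁻¹ := by
        rw [← pow_two, ← pow_mul, inv_pow]
      rw [this] at e2
      exact inv_eq_one.1 e2
    have e4 : orderOf g ∣ 8 := orderOf_dvd_of_pow_eq_one e3
    have e5 : Nat.Coprime (orderOf g) 8 := by
      rw [show (8 : ℕ) = 2 ^ 3 by norm_num]
      exact Nat.Coprime.pow_right 3 (Nat.coprime_two_right.2 hodd)
    have e6 : orderOf g = 1 := Nat.Coprime.eq_one_of_dvd e5 e4
    exact hg1 (orderOf_eq_one_iff.1 e6)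
  have hmem : t ∈ Cfsg.pCore 2 (HH D x) := by
    have : Subgroup.normalClosure {t} ≤ Cfsg.pCore 2 (HH D x) :=
      le_sSup ⟨Subgroup.normalClosure_normal, hnorm⟩
    exact this (Subgroup.subset_normalClosure rfl)
  have hcen := h2 hmem
  -- but `y z` does not commute with some `w ∈ D_x`
  have hw : ∃ w ∈ D, w ≠ x ∧ Commute x w ∧ ¬ Commute w y := by
    by_contra hcon
    push Not at hcon
    have h5 := R.perp_sub x hx y hy (fun d hd hdx => by
      by_cases hdx' : d = x
      · subst hdx'; exact hxy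
      · exact hcon d hd hdx' hdx.symm)
    exact hyx h5.symm
  obtain ⟨w, hwD, hwx, hxw, hwy⟩ := hw
  have hwz : ¬ Commute w z := by
    intro h5
    have h6 := (perp_Line_iff R hx hy hyx.symm hxy (mem_Line_left hx) hz hzx.symm w hwD).2
      ⟨hxw.symm, h5⟩
    exact hwy h6.2
  have hwH : w ∈ HH D x := mem_HH_of ⟨hwD, hwx, hxw⟩
  have h7 := (Subgroup.mem_center_iff.1 hcen) ⟨w, hwH⟩
  have h8 : w * (y * z) = (y * z) * w := congrArg Subtype.val h7
  exact cj_mul_ne h hy hzD hwD hzy.symm hwy hwz (cj_of_commute h8.symm)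

/-- **Piece (1.1).** -/
theorem inherit {G : Type u} [Group G] [Finite G] {D : Set G}
    (hD : Cfsg.Agent.Fischer480.Defs.FGroup D) (x : G) (hx : x ∈ D)
    (h2 : Cfsg.pCore 2 ↥(Subgroup.closure (Cfsg.Agent.Fischer480.Defs.Loc D x)) ≤
      Subgroup.center ↥(Subgroup.closure (Cfsg.Agent.Fischer480.Defs.Loc D x)))
    (h3 : Cfsg.oddCore ↥(Subgroup.closure (Cfsg.Agent.Fischer480.Defs.Loc D x)) ≤
      Subgroup.center ↥(Subgroup.closure (Cfsg.Agent.Fischer480.Defs.Loc D x))) :
    ∃ (K : Type u) (_ : Group K) (_ : Finite K) (E : Set K),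
      Cfsg.Agent.Fischer480.Defs.FGroup E ∧
      Cfsg.Agent.Fischer480.Defs.CIso (Cfsg.Agent.Fischer480.Defs.Loc D x) E := by
  have F : FGroup D := ⟨fdata_of_class hD.cls, hD.sol, hD.perf⟩
  have R := rk_of_FGroup F
  have ht := thinLines_of_pCore R hx h2
  have hI := Cfsg.Agent.Fischer160.Inherit.inherit F ht hx h3
  have hth := thin_of_thinLines ht hx
  refine ⟨KK D x, inferInstance, inferInstance, Eb D x,
    ⟨isThree_of_fdata hI.fd, hI.sol, hI.perf⟩, β D x, ⟨?_, ?_, ?_⟩, ?_⟩
  · intro a ha
    exact β_mem ha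
  · intro a ha b hb hab
    exact β_inj hth ha hb hab
  · intro c hc
    obtain ⟨a, ha, hac⟩ := β_surj hc
    exact ⟨a, ha, hac⟩
  · intro a ha b hb
    exact (β_commute F.fd hth ha hb).symm

end Cfsg.Agent.Fischer160.Piece
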